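import Mathlib

/-! The algebra `A[x, y]/(xy - s)` is free with basis the powers of `x` and of `y`. -/

set_option autoImplicit false

noncomputable section

universe u

open MvPolynomial

namespace Groth.Agent.NodeDef

variable {A : Type u} [CommRing A] (s : A)

/-- The equation `xy - s`. -/
def eqn : MvPolynomial (Fin 2) A := X 0 * X 1 - C s

/-- `A[x, y]/(xy - s)`. -/
abbrev R : Type u := MvPolynomial (Fin 2) A ⧸ Ideal.span {eqn s}

/-- The quotient map. -/
abbrev mk : MvPolynomial (Fin 2) A →ₐ[A] R s := Ideal.Quotient.mkₐ A _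

theorem xy : mk s (X 0) * mk s (X 1) = algebraMap A (R s) s := by
  rw [← map_mul, ← (mk s).commutes, Ideal.Quotient.mkₐ_eq_mk, Ideal.Quotient.eq]
  exact Ideal.subset_span rfl

/-- Maps out of `R s`. -/
def lift {B : Type*} [CommRing B] (f : A →+* B) (x y : B) (h : x * y = f s) : R s →+* B :=
  Ideal.Quotient.lift _ (eval₂Hom f ![x, y]) (by
    intro p hp
    obtain ⟨q, rfl⟩ := Ideal.mem_span_singleton'.1 hp
    simp [eqn, h])

theorem lift_mk_X0 {B : Type*} [CommRing B] (f : A →+* B) (x y : B) (h : x * y = f s) :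
    lift s f x y h (mk s (X 0)) = x := by simp [lift]

theorem lift_mk_X1 {B : Type*} [CommRing B] (f : A →+* B) (x y : B) (h : x * y = f s) :
    lift s f x y h (mk s (X 1)) = y := by simp [lift]

theorem lift_algebraMap {B : Type*} [CommRing B] (f : A →+* B) (x y : B) (h : x * y = f s) (a : A) :
    lift s f x y h (algebraMap A (R s) a) = f a := by
  exact (Ideal.Quotient.lift_mk _ _ _).trans (eval₂Hom_C f ![x, y] a)

theorem smul_eq (a : A) (r : R s) : a • r = algebraMap A (R s) a * r := by
  obtain ⟨p, rfl⟩ := Ideal.Quotient.mkₐ_surjective A _ r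
  rw [← map_smul, ← (mk s).commutes, ← map_mul, Algebra.smul_def]

/-- The monomial indexed by an integer: a power of `x` or a power of `y`. -/
def mono (i : ℤ) : R s := if 0 ≤ i then mk s (X 0) ^ i.toNat else mk s (X 1) ^ (-i).toNat

theorem x_mul_mono (i : ℤ) :
    mk s (X 0) * mono s i = (if 0 ≤ i then 1 else s) • mono s (i + 1) := by
  rcases le_or_gt 0 i with hi | hi
  · rw [if_pos hi, one_smul, mono, mono, if_pos hi, if_pos (by omega), ← pow_succ']
    congr 1
    omega
  · rw [if_neg hi.not_ge, smul_eq]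
    rw [mono, mono, if_neg hi.not_ge]
    obtain ⟨n, hn⟩ : ∃ n : ℕ, (-i).toNat = n + 1 := ⟨(-i).toNat - 1, by omega⟩
    rw [hn, pow_succ', ← mul_assoc, xy]
    congr 1
    rcases n with _ | n
    · rw [if_pos (by omega : (0 : ℤ) ≤ i + 1), show (i + 1).toNat = 0 by omega, pow_zero, pow_zero]
    · rw [if_neg (by omega : ¬ (0 : ℤ) ≤ i + 1)]
      congr 1
      omega

theorem y_mul_mono (i : ℤ) :
    mk s (X 1) * mono s i = (if i ≤ 0 then 1 else s) • mono s (i - 1) := by
  rcases le_or_gt i 0 with hi | hi
  · rw [if_pos hi, one_smul]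
    rcases eq_or_lt_of_le hi with rfl | hi'
    · rw [mono, mono, if_pos le_rfl, if_neg (by omega : ¬ (0 : ℤ) ≤ 0 - 1)]
      simp
    · rw [mono, mono, if_neg hi'.not_ge, if_neg (by omega : ¬ (0 : ℤ) ≤ i - 1), ← pow_succ']
      congr 1
      omega
  · rw [if_neg hi.not_ge, smul_eq]
    rw [mono, mono, if_pos hi.le, if_pos (by omega : (0 : ℤ) ≤ i - 1)]
    obtain ⟨n, hn⟩ : ∃ n : ℕ, i.toNat = n + 1 := ⟨i.toNat - 1, by omega⟩
    rw [hn, pow_succ', ← mul_assoc, mul_comm (mk s (X 1)), xy, show (i - 1).toNat = n by omega]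

/-- Multiplication by `x` on coordinates. -/
def opX : (ℤ →₀ A) →ₗ[A] (ℤ →₀ A) :=
  Finsupp.linearCombination A fun i : ℤ => Finsupp.single (i + 1) (if 0 ≤ i then (1 : A) else s)

/-- Multiplication by `y` on coordinates. -/
def opY : (ℤ →₀ A) →ₗ[A] (ℤ →₀ A) :=
  Finsupp.linearCombination A fun i : ℤ => Finsupp.single (i - 1) (if i ≤ 0 then (1 : A) else s)

theorem opX_single (i : ℤ) (a : A) :
    opX s (Finsupp.single i a) = Finsupp.single (i + 1) (a * if 0 ≤ i then (1 : A) else s) := by
  simp [opX]

theorem opY_single (i : ℤ) (a : A) :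
    opY s (Finsupp.single i a) = Finsupp.single (i - 1) (a * if i ≤ 0 then (1 : A) else s) := by
  simp [opY]

theorem opX_opY : opX s * opY s = algebraMap A (Module.End A (ℤ →₀ A)) s := by
  refine Finsupp.lhom_ext fun i a => ?_
  rw [Module.End.mul_apply, opY_single, opX_single, Module.algebraMap_end_apply, Finsupp.smul_single,
    sub_add_cancel, smul_eq_mul]
  congr 1
  split_ifs <;> first | omega | ring

theorem opY_opX : opY s * opX s = algebraMap A (Module.End A (ℤ →₀ A)) s := by
  refine Finsupp.lhom_ext fun i a => ?_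
  rw [Module.End.mul_apply, opX_single, opY_single, Module.algebraMap_end_apply, Finsupp.smul_single,
    add_sub_cancel_right, smul_eq_mul]
  congr 1
  split_ifs <;> first | omega | ring

/-- The coordinate map on polynomials. -/
def coordP : MvPolynomial (Fin 2) A →ₗ[A] (ℤ →₀ A) :=
  (MvPolynomial.basisMonomials (Fin 2) A).constr A fun d =>
    (opX s ^ (d 0) * opY s ^ (d 1)) (Finsupp.single (0 : ℤ) (1 : A))

theorem coordP_monomial (d : Fin 2 →₀ ℕ) :
    coordP s (monomial d 1) = (opX s ^ (d 0) * opY s ^ (d 1)) (Finsupp.single (0 : ℤ) (1 : A)) := by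
  rw [coordP, show monomial d (1 : A) = MvPolynomial.basisMonomials (Fin 2) A d from
    (congrFun (MvPolynomial.coe_basisMonomials (Fin 2) A) d).symm, Module.Basis.constr_basis]

theorem coordP_X0_mul (p : MvPolynomial (Fin 2) A) : coordP s (X 0 * p) = opX s (coordP s p) := by
  suffices h : coordP s ∘ₗ LinearMap.mulLeft A (X 0) = opX s ∘ₗ coordP s from LinearMap.congr_fun h p
  refine (MvPolynomial.basisMonomials (Fin 2) A).ext fun d => ?_
  simp only [MvPolynomial.coe_basisMonomials, LinearMap.comp_apply, LinearMap.mulLeft_apply]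
  rw [X, monomial_mul, one_mul, coordP_monomial, coordP_monomial]
  simp [pow_add, pow_one, mul_assoc]

theorem coordP_X1_mul (p : MvPolynomial (Fin 2) A) : coordP s (X 1 * p) = opY s (coordP s p) := by
  suffices h : coordP s ∘ₗ LinearMap.mulLeft A (X 1) = opY s ∘ₗ coordP s from LinearMap.congr_fun h p
  refine (MvPolynomial.basisMonomials (Fin 2) A).ext fun d => ?_
  simp only [MvPolynomial.coe_basisMonomials, LinearMap.comp_apply, LinearMap.mulLeft_apply]
  rw [X, monomial_mul, one_mul, coordP_monomial, coordP_monomial]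
  have hc0 : Commute (opY s) (opX s) := (opY_opX s).trans (opX_opY s).symm
  have hc : Commute (opY s) (opX s ^ (d 0)) := hc0.pow_right _
  rw [← Module.End.mul_apply (opY s), ← mul_assoc, hc.eq, mul_assoc, ← pow_succ']
  simp [add_comm]

/-- The coordinate map. -/
def coord : R s →ₗ[A] (ℤ →₀ A) :=
  ((Ideal.span {eqn s}).restrictScalars A).liftQ (coordP s) (by
    intro p hp
    obtain ⟨q, rfl⟩ := Ideal.mem_span_singleton'.1 hp
    rw [LinearMap.mem_ker, mul_comm q, eqn, sub_mul, mul_assoc, map_sub, coordP_X0_mul, coordP_X1_mul,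
      ← smul_eq_C_mul, map_smul, ← Module.End.mul_apply (opX s), opX_opY, Module.algebraMap_end_apply,
      sub_self]) ∘ₗ (Submodule.Quotient.restrictScalarsEquiv A (Ideal.span {eqn s})).symm.toLinearMap

theorem coord_mk (p : MvPolynomial (Fin 2) A) : coord s (mk s p) = coordP s p := rfl

theorem coord_one : coord s 1 = Finsupp.single 0 1 := by
  rw [← map_one (mk s), coord_mk, ← MvPolynomial.C_1, ← MvPolynomial.monomial_zero', coordP_monomial]
  simp

theorem coord_x_mul (r : R s) : coord s (mk s (X 0) * r) = opX s (coord s r) := by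
  obtain ⟨p, rfl⟩ := Ideal.Quotient.mkₐ_surjective A _ r
  rw [← map_mul, coord_mk, coord_mk, coordP_X0_mul]

theorem coord_y_mul (r : R s) : coord s (mk s (X 1) * r) = opY s (coord s r) := by
  obtain ⟨p, rfl⟩ := Ideal.Quotient.mkₐ_surjective A _ r
  rw [← map_mul, coord_mk, coord_mk, coordP_X1_mul]

theorem coord_mono (i : ℤ) : coord s (mono s i) = Finsupp.single i 1 := by
  rcases le_or_gt 0 i with hi | hi
  · obtain ⟨n, rfl⟩ : ∃ n : ℕ, i = n := ⟨i.toNat, by omega⟩
    simp only [mono, if_pos hi, Int.toNat_natCast]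
    induction n with
    | zero => simpa using coord_one s
    | succ n ih =>
      rw [pow_succ', coord_x_mul, ih (by omega), opX_single, if_pos (by omega), one_mul]
      push_cast; rfl
  · obtain ⟨n, rfl⟩ : ∃ n : ℕ, i = -(n : ℤ) := ⟨(-i).toNat, by omega⟩
    simp only [mono, if_neg hi.not_ge, neg_neg, Int.toNat_natCast]
    clear hi
    induction n with
    | zero => simpa using coord_one s
    | succ n ih =>
      rw [pow_succ', coord_y_mul, ih, opY_single, if_pos (by omega), one_mul]
      congr 1
      omega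

theorem span_mono : Submodule.span A (Set.range (mono s)) = ⊤ := by
  set N := Submodule.span A (Set.range (mono s))
  have hx : ∀ r ∈ N, mk s (X 0) * r ∈ N := by
    intro r hr
    induction hr using Submodule.span_induction with
    | mem r hr =>
      obtain ⟨i, rfl⟩ := hr
      rw [x_mul_mono]
      exact N.smul_mem _ (Submodule.subset_span ⟨_, rfl⟩)
    | zero => rw [mul_zero]; exact N.zero_mem
    | add a b _ _ ha hb => rw [mul_add]; exact N.add_mem ha hb
    | smul c a _ ha => rw [mul_smul_comm]; exact N.smul_mem c ha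
  have hy : ∀ r ∈ N, mk s (X 1) * r ∈ N := by
    intro r hr
    induction hr using Submodule.span_induction with
    | mem r hr =>
      obtain ⟨i, rfl⟩ := hr
      rw [y_mul_mono]
      exact N.smul_mem _ (Submodule.subset_span ⟨_, rfl⟩)
    | zero => rw [mul_zero]; exact N.zero_mem
    | add a b _ _ ha hb => rw [mul_add]; exact N.add_mem ha hb
    | smul c a _ ha => rw [mul_smul_comm]; exact N.smul_mem c ha
  rw [eq_top_iff]
  rintro r -
  obtain ⟨p, rfl⟩ := Ideal.Quotient.mkₐ_surjective A _ r
  induction p using MvPolynomial.induction_on with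
  | C a =>
    have h1 : (1 : R s) ∈ N := Submodule.subset_span ⟨0, by simp [mono]⟩
    have h2 := N.smul_mem a h1
    rw [← Algebra.algebraMap_eq_smul_one] at h2
    rwa [show (C a : MvPolynomial (Fin 2) A) = algebraMap A _ a from rfl, AlgHom.commutes]
  | add p q hp hq => rw [map_add]; exact N.add_mem hp hq
  | mul_X p i hp =>
    rw [map_mul, mul_comm]
    fin_cases i
    · exact hx _ hp
    · exact hy _ hp

/-- The basis of powers of `x` and of `y`. -/
def basis : Module.Basis ℤ A (R s) :=
  Module.Basis.mk (v := mono s)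
    (LinearIndependent.of_comp (coord s) (by
      rw [show (coord s) ∘ mono s = fun i : ℤ => Finsupp.single i (1 : A) from funext (coord_mono s)]
      exact Finsupp.linearIndependent_single_one A ℤ))
    (span_mono s).ge

theorem basis_apply (i : ℤ) : basis s i = mono s i := Module.Basis.mk_apply _ _ i

end Groth.Agent.NodeDef
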