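import Mathlib
import Groth.Agent.NodeDef.Basic
import Groth.Agent.DefSchLib.Fibre
import Groth.Agent.DefSchLib.Ext

/-! The deformations `xy = s` of the node and their non-uniqueness. -/

set_option autoImplicit false

noncomputable section

universe u

open MvPolynomial CategoryTheory IsLocalRing

namespace Groth.Agent.NodeDef

open ArtFun ArtFun.Art DefSchLib

variable (k : Type u) [Field k]

/-- The node. -/
abbrev B₀ : Type u := MvPolynomial (Fin 2) k ⧸ Ideal.span {(X 0 * X 1 : MvPolynomial (Fin 2) k)}

variable {k}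

theorem B₀_xy : (Ideal.Quotient.mk _ (X 0) : B₀ k) * Ideal.Quotient.mk _ (X 1) = 0 := by
  rw [← map_mul, Ideal.Quotient.eq_zero_iff_mem]
  exact Ideal.subset_span rfl

theorem span_eqn_zero :
    Ideal.span {eqn (0 : k)} = Ideal.span {(X 0 * X 1 : MvPolynomial (Fin 2) k)} := by simp [eqn]

variable (k) in
/-- The basis of powers on the node. -/
def basis₀ : Module.Basis (ULift.{u} ℤ) k (B₀ k) :=
  ((basis (0 : k)).map (Ideal.quotientEquivAlgOfEq k span_eqn_zero).toLinearEquiv).reindex Equiv.ulift.symm

variable {A B : Art k k}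

/-- The map to the closed fibre. -/
def proj (s : A) (hs : A.res s = 0) : R s →+* B₀ k :=
  lift s ((algebraMap k (B₀ k)).comp (A.res : A →+* k)) (Ideal.Quotient.mk _ (X 0))
    (Ideal.Quotient.mk _ (X 1)) (by simp [B₀_xy, hs])

theorem proj_mono (s : A) (hs : A.res s = 0) (i : ULift.{u} ℤ) :
    proj s hs (mono s i.down) = basis₀ k i := by
  rw [basis₀, Module.Basis.reindex_apply, Module.Basis.map_apply, basis_apply, Equiv.symm_symm]
  show _ = Ideal.quotientEquivAlgOfEq k span_eqn_zero (mono (0 : k) i.down)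
  simp only [mono]
  split_ifs <;> simp [proj, lift, map_pow, Ideal.quotientEquivAlgOfEq_mk]

/-- The deformation `xy = s`. -/
def nodeDef (s : A) (hs : A.res s = 0) : RingDef (B₀ k) A :=
  let b := (basis s).reindex Equiv.ulift.{u}.symm
  have hb : ∀ i, b i = mono s i.down := fun i => by
    simp [b, Module.Basis.reindex_apply, basis_apply]
  have hsum : ∀ c : ULift.{u} ℤ →₀ A,
      (c.sum fun i a => algebraMap A (R s) a * mono s i.down) = Finsupp.linearCombination A b c :=
    fun c => by
      rw [Finsupp.linearCombination_apply]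
      exact Finset.sum_congr rfl fun i _ => by
        show _ * _ = c i • b i
        rw [hb, smul_eq]
  RingDef.ofBasis (algebraMap A (R s)) (proj s hs) (fun a => by simp [proj, lift_algebraMap])
    (basis₀ k) (fun i => mono s i.down) (fun i => proj_mono s hs i)
    (fun c hc => by
      rw [hsum] at hc
      exact linearIndependent_iff.1 b.linearIndependent c hc)
    (fun r => ⟨b.repr r, by rw [hsum, b.linearCombination_repr]⟩)

theorem nodeDef_R (s : A) (hs : A.res s = 0) : (nodeDef s hs).R = R s := rfl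

/-- The scaling map on rings. -/
def scaleMap (g : A ⟶ B) (s : A) (s' c : B) (h : g s = c * s') : R s →+* R s' :=
  lift s ((algebraMap B (R s')).comp g.toAlgHom.toRingHom)
    (algebraMap B (R s') c * mk s' (X 0)) (mk s' (X 1)) (by
      rw [mul_assoc, xy, ← map_mul, ← h]
      rfl)

/-- Scaling `x` by a unit congruent to one. -/
def scaleHom (g : A ⟶ B) (s : A) (hs : A.res s = 0) (s' : B) (hs' : B.res s' = 0) (c : B)
    (hc : B.res c = 1) (h : g s = c * s') : Hom g (nodeDef s hs) (nodeDef s' hs') where
  φ := scaleMap g s s' c h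
  φ_str a := lift_algebraMap s _ _ _ _ a

  π_φ := by
    intro r
    refine RingHom.congr_fun (?_ : (proj s' hs').comp (scaleMap g s s' c h) = proj s hs) r
    refine Ideal.Quotient.ringHom_ext (MvPolynomial.ringHom_ext (fun a => ?_) fun i => ?_)
    · show proj s' hs' (scaleMap g s s' c h (algebraMap A (R s) a)) = proj s hs (algebraMap A (R s) a)
      simp only [scaleMap, lift_algebraMap, proj, RingHom.comp_apply]
      exact congrArg _ (res_app g a)
    · show proj s' hs' (scaleMap g s s' c h (mk s (X i))) = proj s hs (mk s (X i))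
      fin_cases i <;>
        simp only [Fin.zero_eta, Fin.mk_one, proj, scaleMap, lift_mk_X0, lift_mk_X1, map_mul, lift_algebraMap] <;>
        simp [hc]

/-- Deformations `xy = s` and `xy = s'` over the same base are different if some map to `k[δ]/δ²`
separates `s` and `s'`. -/
theorem not_hom (s s' : A) (hs : A.res s = 0) (hs' : A.res s' = 0) (h : A →+* DualNumber k)
    (hres : ∀ a, TrivSqZeroExt.fst (h a) = A.res a) (h1 : h s' = 0) (h2 : h s ≠ 0) :
    IsEmpty (Hom (𝟙 A) (nodeDef s hs) (nodeDef s' hs')) := by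
  refine ⟨fun f => h2 ?_⟩
  let φ : R s →+* R s' := f.φ
  let ψ : R s' →+* DualNumber k := lift s' h 0 0 (by rw [zero_mul, h1])
  let aug : B₀ k →+* k := Ideal.Quotient.lift _ (eval₂Hom (RingHom.id k) ![0, 0]) (by
    intro p hp
    obtain ⟨q, rfl⟩ := Ideal.mem_span_singleton'.1 hp
    simp)
  have hψ : (TrivSqZeroExt.fstHom k k k).toRingHom.comp ψ = aug.comp (proj s' hs') := by
    refine Ideal.Quotient.ringHom_ext (MvPolynomial.ringHom_ext (fun a => ?_) fun i => ?_)
    · show TrivSqZeroExt.fst (ψ (algebraMap A (R s') a)) = aug (proj s' hs' (algebraMap A (R s') a))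
      simp only [ψ, proj, lift_algebraMap, RingHom.comp_apply]
      rw [hres]
      exact ((Ideal.Quotient.lift_mk _ _ _).trans (eval₂Hom_C _ _ _)).symm
    · show TrivSqZeroExt.fst (ψ (mk s' (X i))) = aug (proj s' hs' (mk s' (X i)))
      fin_cases i <;> simp [ψ, proj, aug, lift]
  have hz : ∀ i, TrivSqZeroExt.fst (ψ (φ (mk s (X i)))) = 0 := by
    intro i
    have h4 : proj s' hs' (φ (mk s (X i))) = proj s hs (mk s (X i)) := f.π_φ (mk s (X i))
    refine (RingHom.congr_fun hψ _).trans ?_
    rw [RingHom.comp_apply, h4]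
    fin_cases i <;> simp [proj, aug, lift]
  have h3 : φ (algebraMap A (R s) s) = algebraMap A (R s') s := f.φ_str s
  have h5 : ψ (φ (mk s (X 0))) * ψ (φ (mk s (X 1))) = h s := by
    rw [← map_mul, ← map_mul, xy, h3]
    exact lift_algebraMap s' h 0 0 _ s
  rw [← h5]
  refine TrivSqZeroExt.ext ?_ ?_
  · rw [TrivSqZeroExt.fst_mul, hz, zero_mul, TrivSqZeroExt.fst_zero]
  · rw [TrivSqZeroExt.snd_mul, hz, hz]
    simp

end Groth.Agent.NodeDef
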